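import Groth.Agent.S2500

set_option autoImplicit false
universe u
open CategoryTheory CategoryTheory.Limits AlgebraicGeometry

namespace Groth.Agent.H71.Irr

/-- a space covered by pairwise-meeting irreducible open subsets is irreducible -/
theorem irreducibleSpace_of_cover {X : Type*} [TopologicalSpace X] {ι : Type*} [Nonempty ι]
    (U : ι → Set X) (hopen : ∀ i, IsOpen (U i)) (hirr : ∀ i, IsIrreducible (U i))
    (hcov : ∀ x : X, ∃ i, x ∈ U i) (hmeet : ∀ i j, (U i ∩ U j).Nonempty) :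
    IrreducibleSpace X := by
  obtain ⟨i₀⟩ : Nonempty ι := inferInstance
  have hne : Nonempty X := ⟨(hirr i₀).nonempty.some⟩
  refine @IrreducibleSpace.mk _ _ ⟨?_⟩ hne
  rintro A B hA hB ⟨a, -, ha⟩ ⟨b, -, hb⟩
  obtain ⟨i, hi⟩ := hcov a
  obtain ⟨j, hj⟩ := hcov b
  -- A ∩ U i ∩ U j nonempty
  obtain ⟨c, hc⟩ := (hirr i).isPreirreducible A (U j) hA (hopen j) ⟨a, hi, ha⟩
    (by obtain ⟨z, hz⟩ := hmeet i j; exact ⟨z, hz.1, hz.2⟩)
  obtain ⟨d, hd⟩ := (hirr j).isPreirreducible A B hA hB ⟨c, hc.2.2, hc.2.1⟩ ⟨b, hj, hb⟩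
  exact ⟨d, Set.mem_univ _, hd.2⟩

end Groth.Agent.H71.Irr
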