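import Groth.Agent.H71.Irr.Cover

set_option autoImplicit false
universe u
open CategoryTheory CategoryTheory.Limits AlgebraicGeometry

namespace Groth.Agent.H71.Irr

/-- S14375 -/
theorem irreducibleSpace_of_locallyTrivial (k : Type u) [Field k] [IsAlgClosed k]
    {X Y F : Scheme.{u}} (qX : X ⟶ Spec (CommRingCat.of k)) (qY : Y ⟶ Spec (CommRingCat.of k))
    (qF : F ⟶ Spec (CommRingCat.of k))
    [IrreducibleSpace ↥F] [IrreducibleSpace ↥Y]
    (f : X ⟶ Y)
    (htriv : ∀ y : ↥Y, ∃ V : Y.Opens, y ∈ V ∧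
      ∃ e : (↑(f ⁻¹ᵁ V) : Scheme.{u}) ≅ pullback (V.ι ≫ qY) qF,
        e.hom ≫ pullback.fst (V.ι ≫ qY) qF = f ∣_ V) :
    IrreducibleSpace ↥X := by
  haveI : GeometricallyIrreducible qF := Groth.Agent.S2500.result qF
  haveI : UniversallyOpen qF := inferInstance
  choose V hyV e he using htriv
  have hVirr : ∀ y, IrreducibleSpace ↥(V y : Scheme.{u}) := by
    intro y
    have h1 : IsIrreducible ((V y : Y.Opens) : Set Y) := by
      have := (IrreducibleSpace.isIrreducible_univ Y).isPreirreducible.open_subset (V y).isOpen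
        (Set.subset_univ _)
      exact ⟨⟨y, hyV y⟩, this⟩
    exact isIrreducible_iff_irreducibleSpace.1 h1
  have hP : ∀ y, IrreducibleSpace ↥(pullback ((V y).ι ≫ qY) qF) := by
    intro y
    haveI := hVirr y
    infer_instance
  have hU : ∀ y, IsIrreducible ((f ⁻¹ᵁ V y : X.Opens) : Set X) := by
    intro y
    haveI := hP y
    have : IrreducibleSpace ↥(↑(f ⁻¹ᵁ V y) : Scheme.{u}) :=
      (e y).hom.homeomorph.irreducibleSpace_iff.2 inferInstance
    exact isIrreducible_iff_irreducibleSpace.2 this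
  -- surjectivity over each `V y`
  have hsurj : ∀ y, ∀ z ∈ V y, ∃ x : X, f.base x = z := by
    intro y z hz
    haveI := hVirr y
    obtain ⟨p, hp⟩ := (pullback.fst ((V y).ι ≫ qY) qF).surjective ⟨z, hz⟩
    refine ⟨((e y).inv.base p).1, ?_⟩
    have h1 : (f ∣_ V y).base ((e y).inv.base p) = ⟨z, hz⟩ := by
      rw [← he y, ← hp]
      simp [← Scheme.Hom.comp_apply]
    have h2 := congrArg Subtype.val h1
    rw [morphismRestrict_base_coe] at h2
    exact h2
  obtain ⟨y₀⟩ : Nonempty Y := inferInstance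
  haveI : Nonempty Y := ⟨y₀⟩
  refine irreducibleSpace_of_cover (fun y : Y => ((f ⁻¹ᵁ V y : X.Opens) : Set X))
    (fun y => (f ⁻¹ᵁ V y).isOpen) hU (fun x => ⟨f.base x, hyV _⟩) ?_
  intro y y'
  obtain ⟨z, hz⟩ := (IrreducibleSpace.isIrreducible_univ Y).isPreirreducible (V y) (V y')
    (V y).isOpen (V y').isOpen ⟨y, Set.mem_univ _, hyV y⟩ ⟨y', Set.mem_univ _, hyV y'⟩
  obtain ⟨x, hx⟩ := hsurj y z hz.2.1
  exact ⟨x, by simpa [hx] using hz.2.1, by simpa [hx] using hz.2.2⟩

end Groth.Agent.H71.Irr
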